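import Mathlib

/-!
# Sylow data of the rank-one groups of Lie type in the defining characteristic

`IsRankOneSylow p U`: distinct Sylow subgroups meet trivially, there are `|U| + 1` of them, `N(U)/U` is cyclic,
and some element of `N(U)` of order dividing `p - 1` acts on `U` without fixed points.
-/

set_option autoImplicit false
set_option linter.unusedSectionVars false

namespace Cfsg.Lib.RankOneRed

open Subgroup
open scoped Pointwise

variable {E : Type*} [Group E] {p : ℕ}

/-- The Sylow data. -/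
structure IsRankOneSylow (p : ℕ) (U : Sylow p E) : Prop where
  ti : ∀ V W : Sylow p E, V ≠ W → (V : Subgroup E) ⊓ W = ⊥
  card : Nat.card (Sylow p E) = Nat.card U + 1
  cyclic : ∃ g ∈ normalizer ((U : Subgroup E) : Set E), ∀ x ∈ normalizer ((U : Subgroup E) : Set E),
    ∃ k : ℤ, x * g ^ k ∈ U
  torus : ∃ t ∈ normalizer ((U : Subgroup E) : Set E), orderOf t ∣ p - 1 ∧
    ∀ u ∈ U, u * t = t * u → u = 1

/-- Some Sylow subgroup has the data. -/
def HasRankOneSylow (p : ℕ) (E : Type*) [Group E] : Prop := ∃ U : Sylow p E, IsRankOneSylow p U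

theorem mem_normalizer_sylow {U : Sylow p E} {x : E} :
    x ∈ normalizer ((U : Subgroup E) : Set E) ↔ x • U = U :=
  Sylow.smul_eq_iff_mem_normalizer.symm

theorem mem_smul_sylow {U : Sylow p E} {a x : E} : x ∈ ((a • U : Sylow p E) : Subgroup E) ↔ a⁻¹ * x * a ∈ U := by
  rw [Sylow.coe_subgroup_smul, Subgroup.mem_pointwise_smul_iff_inv_smul_mem]
  simp
  rfl

/-- Trivial intersection follows from one Sylow subgroup. -/
theorem ti_of_conj [Finite E] [Fact p.Prime] (U : Sylow p E)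
    (h : ∀ g : E, ∀ u ∈ U, u ≠ 1 → g * u * g⁻¹ ∈ U → g ∈ normalizer ((U : Subgroup E) : Set E)) :
    ∀ V W : Sylow p E, V ≠ W → (V : Subgroup E) ⊓ W = ⊥ := by
  intro V W hVW
  obtain ⟨a, rfl⟩ := MulAction.exists_smul_eq E U V
  obtain ⟨b, rfl⟩ := MulAction.exists_smul_eq E U W
  rw [eq_bot_iff]
  intro x hxm
  rw [Subgroup.mem_inf, mem_smul_sylow, mem_smul_sylow] at hxm
  obtain ⟨hxa, hxb⟩ := hxm
  rw [mem_bot]
  by_contra hx
  have h1 := h (b⁻¹ * a) (a⁻¹ * x * a) hxa (fun e => hx (by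
    calc x = a * (a⁻¹ * x * a) * a⁻¹ := by group
      _ = 1 := by rw [e]; group)) (by
    have e : b⁻¹ * a * (a⁻¹ * x * a) * (b⁻¹ * a)⁻¹ = b⁻¹ * x * b := by group
    rw [e]; exact hxb)
  refine hVW ?_
  rw [mem_normalizer_sylow, mul_smul, inv_smul_eq_iff] at h1
  exact h1

theorem exists_sylow_mem [Fact p.Prime] {x : E} (hx : ∃ k : ℕ, x ^ p ^ k = 1) :
    ∃ V : Sylow p E, x ∈ V := by
  obtain ⟨k, hk⟩ := hx
  have hp : IsPGroup p (Subgroup.zpowers x) := by
    rintro ⟨y, l, rfl⟩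
    exact ⟨k, Subtype.ext (by
      show (x ^ l) ^ p ^ k = 1
      rw [← zpow_natCast, ← zpow_mul, mul_comm, zpow_mul, zpow_natCast, hk, one_zpow])⟩
  obtain ⟨V, hV⟩ := hp.exists_le_sylow
  exact ⟨V, hV (mem_zpowers x)⟩

namespace IsRankOneSylow

variable [Finite E] [Fact p.Prime] {U : Sylow p E}

theorem smul (h : IsRankOneSylow p U) (a : E) : IsRankOneSylow p (a • U) := by
  have hmem : ∀ x : E, x ∈ a • U ↔ a⁻¹ * x * a ∈ U := by
    intro x
    exact mem_smul_sylow
  have hN : ∀ x : E, x ∈ normalizer (((a • U : Sylow p E) : Subgroup E) : Set E) ↔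
      a⁻¹ * x * a ∈ normalizer ((U : Subgroup E) : Set E) := by
    intro x
    rw [mem_normalizer_sylow, mem_normalizer_sylow, mul_smul, mul_smul, inv_smul_eq_iff]
  obtain ⟨g, hg, hgc⟩ := h.cyclic
  obtain ⟨t, ht, hto, htc⟩ := h.torus
  refine ⟨h.ti, ?_, ⟨a * g * a⁻¹, (hN _).2 (by simpa [mul_assoc] using hg), fun x hx => ?_⟩,
    a * t * a⁻¹, (hN _).2 (by simpa [mul_assoc] using ht), ?_, fun u hu huc => ?_⟩
  · rw [h.card]
    congr 1
    exact Nat.card_congr ((equivSMul (MulAut.conj a) (U : Subgroup E)).toEquiv)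
  · obtain ⟨k, hk⟩ := hgc _ ((hN x).1 hx)
    refine ⟨k, (hmem _).2 ?_⟩
    rw [conj_zpow]
    simpa [mul_assoc] using hk
  · rw [← MulAut.conj_apply, (MulAut.conj a).orderOf_eq]
    exact hto
  · have e : a⁻¹ * u * a = 1 := htc _ ((hmem u).1 hu) (by
      calc a⁻¹ * u * a * t = a⁻¹ * (u * (a * t * a⁻¹)) * a := by group
        _ = a⁻¹ * ((a * t * a⁻¹) * u) * a := by rw [huc]
        _ = t * (a⁻¹ * u * a) := by group)
    calc u = a * (a⁻¹ * u * a) * a⁻¹ := by group
      _ = 1 := by rw [e]; group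

/-- The data does not depend on the Sylow subgroup. -/
theorem forall_sylow (h : IsRankOneSylow p U) (V : Sylow p E) : IsRankOneSylow p V := by
  obtain ⟨a, rfl⟩ := MulAction.exists_smul_eq E U V
  exact h.smul a

theorem exists_ne (h : IsRankOneSylow p U) : ∃ V : Sylow p E, V ≠ U := by
  by_contra hc
  push Not at hc
  have : Subsingleton (Sylow p E) := ⟨fun a b => (hc a).trans (hc b).symm⟩
  have h1 := h.card
  rw [Nat.card_of_subsingleton U] at h1
  exact Nat.card_pos.ne' (Nat.succ_injective h1).symm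

/-- A central element of `p`-power order is trivial. -/
theorem eq_one_of_central (h : IsRankOneSylow p U) {x : E} (hx : ∃ k : ℕ, x ^ p ^ k = 1)
    (hc : ∀ y : E, y * x = x * y) : x = 1 := by
  obtain ⟨V, hV⟩ := exists_sylow_mem hx
  obtain ⟨W, hW⟩ := (h.forall_sylow V).exists_ne
  obtain ⟨a, ha⟩ := MulAction.exists_smul_eq E V W
  have hxW : x ∈ (W : Subgroup E) := by
    rw [← ha, mem_smul_sylow, hc a⁻¹ , mul_assoc, inv_mul_cancel, mul_one]
    exact hV
  have := h.ti _ _ hW.symm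
  rw [eq_bot_iff] at this
  exact mem_bot.1 (this ⟨hV, hxW⟩)

theorem map (h : IsRankOneSylow p U) {E' : Type*} [Group E'] [Finite E'] (f : E →* E')
    (hf : Function.Surjective f) (hc : f.ker ≤ center E) :
    IsRankOneSylow p (Sylow.mapSurjective hf U) := by
  have hker : ∀ x : E, f x = 1 → (∃ k : ℕ, x ^ p ^ k = 1) → x = 1 := fun x hx hk =>
    h.eq_one_of_central hk fun y => mem_center_iff.1 (hc hx) y
  have hfree : ∀ (V : Sylow p E) (x : E), x ∈ V → f x = 1 → x = 1 := fun V x hxV hx => by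
    obtain ⟨k, hk⟩ := V.isPGroup' ⟨x, hxV⟩
    exact hker x hx ⟨k, congrArg Subtype.val hk⟩
  have hcomm : ∀ x y : E, f x = 1 → y * x = x * y := fun x y hx => mem_center_iff.1 (hc hx) y
  -- elements of `p`-power order with equal images in Sylow subgroups are equal
  have heq : ∀ (V W : Sylow p E) (x y : E), x ∈ V → y ∈ W → f x = f y → x = y := by
    intro V W x y hx hy he
    have hz : f (y⁻¹ * x) = 1 := by rw [map_mul, map_inv, he, inv_mul_cancel]
    obtain ⟨k, hk⟩ := V.isPGroup' ⟨x, hx⟩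
    obtain ⟨l, hl⟩ := W.isPGroup' ⟨y, hy⟩
    have hk' : x ^ p ^ k = 1 := congrArg Subtype.val hk
    have hl' : y⁻¹ ^ p ^ l = 1 := by rw [inv_pow, show y ^ p ^ l = 1 from congrArg Subtype.val hl, inv_one]
    have hcxy : Commute y⁻¹ x := by
      refine Commute.inv_left ?_
      have h2 : y * (y⁻¹ * x) = (y⁻¹ * x) * y := hcomm _ y hz
      rw [mul_inv_cancel_left] at h2
      show y * x = x * y
      conv_lhs => rw [h2]
      group
    have := hker _ hz ⟨k + l, by
      rw [hcxy.mul_pow]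
      have e1 : x ^ p ^ (k + l) = 1 := by rw [pow_add, pow_mul, hk', one_pow]
      have e2 : y⁻¹ ^ p ^ (k + l) = 1 := by rw [add_comm k l, pow_add, pow_mul, hl', one_pow]
      rw [e1, e2, one_mul]⟩
    exact (inv_mul_eq_one.1 this).symm
  have hcoe : ∀ V : Sylow p E, ((Sylow.mapSurjective hf V : Sylow p E') : Subgroup E') = (V : Subgroup E).map f :=
    fun V => rfl
  have hinj : Function.Injective (Sylow.mapSurjective (p := p) hf) := by
    intro V W he
    refine Sylow.ext (SetLike.ext fun x => ?_)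
    have he' : (V : Subgroup E).map f = (W : Subgroup E).map f := by rw [← hcoe, ← hcoe, he]
    constructor <;> intro hx
    · obtain ⟨y, hy, hyx⟩ : f x ∈ (W : Subgroup E).map f := he' ▸ ⟨x, hx, rfl⟩
      exact (heq W V y x hy hx hyx) ▸ hy
    · obtain ⟨y, hy, hyx⟩ : f x ∈ (V : Subgroup E).map f := he'.symm ▸ ⟨x, hx, rfl⟩
      exact (heq V W y x hy hx hyx) ▸ hy
  have hsurj : Function.Surjective (Sylow.mapSurjective (p := p) hf) := Sylow.mapSurjective_surjective hf p
  have hN : ∀ x : E, f x ∈ normalizer (((Sylow.mapSurjective hf U : Sylow p E') : Subgroup E') : Set E') →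
      x ∈ normalizer ((U : Subgroup E) : Set E) := by
    intro x hx
    rw [mem_normalizer_sylow]
    refine hinj (Sylow.ext (SetLike.ext fun y => ?_))
    rw [mem_normalizer_sylow] at hx
    conv_rhs => rw [← hx]
    rw [mem_smul_sylow, hcoe]
    constructor
    · rintro ⟨z, hz, rfl⟩
      rw [SetLike.mem_coe, mem_smul_sylow] at hz
      exact ⟨x⁻¹ * z * x, hz, by simp [map_mul, map_inv]⟩
    · rintro ⟨z, hz, he⟩
      refine ⟨x * z * x⁻¹, ?_, ?_⟩
      · rw [SetLike.mem_coe, mem_smul_sylow]; simpa [mul_assoc] using hz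
      · rw [map_mul, map_mul, he, map_inv]; group
  have hN' : ∀ x ∈ normalizer ((U : Subgroup E) : Set E),
      f x ∈ normalizer (((Sylow.mapSurjective hf U : Sylow p E') : Subgroup E') : Set E') :=
    fun x hx => le_normalizer_map f ⟨x, hx, rfl⟩
  obtain ⟨g, hg, hgc⟩ := h.cyclic
  obtain ⟨t, ht, hto, htc⟩ := h.torus
  refine ⟨fun V' W' hne => ?_, ?_, ⟨f g, hN' g hg, fun y hy => ?_⟩, f t, hN' t ht,
    (orderOf_map_dvd f t).trans hto, fun u' hu' he => ?_⟩
  · obtain ⟨V, rfl⟩ := hsurj V'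
    obtain ⟨W, rfl⟩ := hsurj W'
    rw [eq_bot_iff]
    rintro y ⟨⟨a, ha, rfl⟩, b, hb, hab⟩
    obtain rfl := heq W V b a hb ha hab
    have := h.ti V W fun e => hne (by rw [e])
    rw [eq_bot_iff] at this
    rw [mem_bot, mem_bot.1 (this ⟨ha, hb⟩), map_one]
  · rw [← Nat.card_congr (Equiv.ofBijective _ ⟨hinj, hsurj⟩), h.card]
    congr 1
    refine Nat.card_congr (Equiv.ofBijective (fun u : U => (⟨f u, u, u.2, rfl⟩ :
      ↥((U : Subgroup E).map f))) ⟨fun a b hab => ?_, ?_⟩)
    · exact Subtype.ext (heq U U a b a.2 b.2 (congrArg Subtype.val hab))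
    · rintro ⟨_, a, ha, rfl⟩
      exact ⟨⟨a, ha⟩, rfl⟩
  · obtain ⟨x, rfl⟩ := hf y
    obtain ⟨k, hk⟩ := hgc x (hN x hy)
    exact ⟨k, x * g ^ k, hk, by rw [map_mul, map_zpow]⟩
  · obtain ⟨u, hu, rfl⟩ := hu'
    have hconj : t * u * t⁻¹ ∈ U := (mem_normalizer_iff.1 ht u).1 hu
    have h2 : f (t * u * t⁻¹) = f u := by
      rw [map_mul, map_mul, map_inv, ← he]
      group
    have h3 : t * u * t⁻¹ = u := heq U U _ _ hconj hu h2
    rw [htc u hu (by
      calc u * t = t * u * t⁻¹ * t := by rw [h3]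
        _ = t * u := by group), map_one]

end IsRankOneSylow

theorem HasRankOneSylow.map [Finite E] [Fact p.Prime] (h : HasRankOneSylow p E) {E' : Type*} [Group E']
    [Finite E'] (f : E →* E') (hf : Function.Surjective f) (hc : f.ker ≤ center E) :
    HasRankOneSylow p E' := by
  obtain ⟨U, hU⟩ := h
  exact ⟨_, hU.map f hf hc⟩

theorem HasRankOneSylow.of_equiv [Finite E] [Fact p.Prime] (h : HasRankOneSylow p E) {E' : Type*} [Group E']
    (e : E ≃* E') : HasRankOneSylow p E' :=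
  haveI : Finite E' := Finite.of_equiv E e.toEquiv
  h.map e.toMonoidHom e.surjective fun x hx => by
    rw [e.injective ((MonoidHom.mem_ker.1 hx).trans (map_one e).symm)]
    exact one_mem _

end Cfsg.Lib.RankOneRed
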