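import Cfsg.Agent.Lib.Local.RankOneRed.Data
import Cfsg.Agent.Lib.Fusion.Basic
import Cfsg.Agent.Lib.Core.Cores
import Cfsg.Agent.Lib.Solv.Nilpotent

/-!
# An element centralizing a Sylow subgroup and its normalizer above a rank-one group

If `O_p(X) = 1`, `O^p(X)` has rank-one Sylow data and no two proper subgroups over the Sylow subgroup `S`
generate `X`, then a `p`-element of `Z(S)` commuting with `N(S)` is trivial.
-/

set_option autoImplicit false
set_option linter.unusedSectionVars false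

namespace Cfsg.Lib.RankOneRed

open Subgroup
open scoped Pointwise

variable {E : Type*} [Group E] [Finite E] {p : ℕ} [Fact p.Prime] {U : Sylow p E}

/-- An automorphism of `p`-power order of the normalizer fixes the torus modulo the Sylow subgroup. -/
theorem auto_torus (hU : IsRankOneSylow p U) (γ : MulAut E) {k : ℕ} (hγ : γ ^ p ^ k = 1)
    (hγU : γ • U = U) {t : E} (ht : t ∈ normalizer ((U : Subgroup E) : Set E)) (hto : orderOf t ∣ p - 1) :
    γ t * t⁻¹ ∈ U := by
  set N := normalizer ((U : Subgroup E) : Set E) with hN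
  have hsU : ∀ x : E, (x • U : Sylow p E) = MulAut.conj x • U := fun _ => rfl
  have hγN : ∀ x ∈ N, γ x ∈ N := by
    intro x hx
    rw [hN, mem_normalizer_sylow, hsU] at hx ⊢
    have e : MulAut.conj (γ x) * γ = γ * MulAut.conj x := by
      ext y; simp [map_mul, map_inv]
    conv_lhs => rw [← hγU]
    rw [smul_smul, e, ← smul_smul, hx, hγU]
  have hγU' : ∀ x ∈ U, γ x ∈ U := by
    intro x hx
    show γ x ∈ (U : Subgroup E)
    rw [← hγU]
    exact ⟨x, hx, rfl⟩
  set K := (U : Subgroup E).subgroupOf N with hK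
  have : K.Normal := normal_in_normalizer
  let γN : N →* N := (γ.toMonoidHom.comp N.subtype).codRestrict N fun x => hγN x.1 x.2
  let φ : N ⧸ K →* N ⧸ K := QuotientGroup.map K K γN fun x hx => hγU' x.1 hx
  have hφ : ∀ x : N, φ (x : N ⧸ K) = ((γN x : N) : N ⧸ K) := fun x => rfl
  obtain ⟨g, hg, hgc⟩ := hU.cyclic
  have : IsCyclic (N ⧸ K) := by
    refine ⟨(QuotientGroup.mk (⟨g, hg⟩ : N) : N ⧸ K), fun y => ?_⟩
    obtain ⟨x, rfl⟩ := QuotientGroup.mk_surjective y
    obtain ⟨j, hj⟩ := hgc x.1 x.2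
    refine ⟨-j, ?_⟩
    have h : ((x * (⟨g, hg⟩ : N) ^ j : N) : N ⧸ K) = 1 := (QuotientGroup.eq_one_iff _).2 hj
    rw [QuotientGroup.mk_mul, QuotientGroup.mk_zpow, mul_eq_one_iff_eq_inv] at h
    show ((⟨g, hg⟩ : N) : N ⧸ K) ^ (-j) = _
    rw [zpow_neg]
    exact h.symm
  set a : N ⧸ K := QuotientGroup.mk (⟨t, ht⟩ : N) with ha
  have hd : orderOf a ∣ p - 1 := by
    refine (orderOf_map_dvd (QuotientGroup.mk' K) (⟨t, ht⟩ : N)).trans ?_
    rw [← Subgroup.orderOf_coe]
    exact hto
  -- `φ a` is a power of `a`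
  have hmem : φ a ∈ zpowers a := by
    classical
    have := Fintype.ofFinite (N ⧸ K)
    have h1 : φ a ^ orderOf a = 1 := by rw [← map_pow, pow_orderOf_eq_one, map_one]
    have hsub : (Set.toFinset (zpowers a : Set (N ⧸ K))) ⊆ Finset.univ.filter (fun y => y ^ orderOf a = 1) := by
      intro y hy
      rw [Set.mem_toFinset] at hy
      obtain ⟨l, rfl⟩ := hy
      simp only [Finset.mem_filter, Finset.mem_univ, true_and]
      rw [← zpow_natCast, ← zpow_mul, mul_comm, zpow_mul, zpow_natCast, pow_orderOf_eq_one, one_zpow]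
    have heq := Finset.eq_of_subset_of_card_le hsub ((IsCyclic.card_pow_eq_one_le (orderOf_pos a)).trans
      (le_of_eq (by
        rw [Set.toFinset_card, ← Nat.card_eq_fintype_card]
        exact (Nat.card_zpowers a).symm)))
    have : φ a ∈ Finset.univ.filter (fun y => y ^ orderOf a = 1) := by simp [h1]
    rw [← heq, Set.mem_toFinset] at this
    exact this
  obtain ⟨m, hm⟩ := (Subgroup.mem_zpowers_iff).1 hmem
  have hiter : ∀ j : ℕ, (φ)^[j] a = a ^ (m ^ j) := by
    intro j
    induction j with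
    | zero => simp
    | succ j ih => rw [Function.iterate_succ_apply', ih, map_zpow, ← hm, ← zpow_mul, ← pow_succ']
  have hiterγ : ∀ (j : ℕ) (x : N), (φ)^[j] (x : N ⧸ K) = ((γN^[j] x : N) : N ⧸ K) := by
    intro j x
    induction j with
    | zero => rfl
    | succ j ih => rw [Function.iterate_succ_apply', Function.iterate_succ_apply', ih, hφ]
  have hiterE : ∀ (j : ℕ) (x : N), ((γN^[j] x : N) : E) = (γ ^ j) x.1 := by
    intro j x
    induction j with
    | zero => rfl
    | succ j ih => rw [Function.iterate_succ_apply', pow_succ', MulAut.mul_apply, ← ih]; rfl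
  have hfix : a ^ (m ^ p ^ k) = a := by
    rw [← hiter, ha, hiterγ]
    congr 1
    refine Subtype.ext ?_
    rw [hiterE, hγ]
    rfl
  have hd0 : NeZero (orderOf a) := ⟨(orderOf_pos a).ne'⟩
  have hm1 : (m : ZMod (orderOf a)) = 1 := by
    have h1 : ((m : ZMod (orderOf a))) ^ p ^ k = 1 := by
      have h2 : a ^ (m ^ p ^ k) = a ^ (1 : ℤ) := by rw [hfix, zpow_one]
      rw [zpow_eq_zpow_iff_modEq, ← ZMod.intCast_eq_intCast_iff] at h2
      push_cast at h2
      exact h2
    obtain ⟨u, hu⟩ : IsUnit (m : ZMod (orderOf a)) :=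
      IsUnit.of_pow_eq_one h1 (pow_pos (Fact.out : p.Prime).pos k).ne'
    rw [← hu] at h1 ⊢
    have h3 : u ^ p ^ k = 1 := Units.ext (by rw [Units.val_pow_eq_pow_val, h1, Units.val_one])
    have hp : p.Prime := Fact.out
    have hlt : (orderOf a).totient < p := by
      have h4 : orderOf a ≤ p - 1 := Nat.le_of_dvd (by have := hp.two_le; omega) hd
      have := Nat.totient_le (orderOf a)
      have := hp.two_le
      omega
    have hcop : Nat.Coprime (p ^ k) (orderOf a).totient :=
      (hp.coprime_iff_not_dvd.2 fun hdvd => absurd (Nat.le_of_dvd (Nat.totient_pos.2 (orderOf_pos a)) hdvd)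
        (not_le.2 hlt)).pow_left k
    have h6 : orderOf u = 1 := Nat.eq_one_of_dvd_coprimes hcop (orderOf_dvd_of_pow_eq_one h3)
      (orderOf_dvd_of_pow_eq_one (ZMod.pow_totient u))
    rw [orderOf_eq_one_iff.1 h6, Units.val_one]
  have hφa : φ a = a := by
    rw [← hm]
    conv_rhs => rw [← zpow_one a]
    rw [zpow_eq_zpow_iff_modEq, ← ZMod.intCast_eq_intCast_iff]
    simpa using hm1
  rw [ha, hφ] at hφa
  have := (QuotientGroup.eq_iff_div_mem (N := K)).1 hφa
  show γ t * t⁻¹ ∈ (U : Subgroup E)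
  simpa [hK, Subgroup.mem_subgroupOf, div_eq_mul_inv, γN] using this

/-- An automorphism centralizing a Sylow subgroup and fixing a torus element fixes all `p`-elements. -/
theorem auto_fix (hU : IsRankOneSylow p U) (γ : MulAut E) (hγU : ∀ u ∈ U, γ u = u) {t : E}
    (ht : t ∈ normalizer ((U : Subgroup E) : Set E)) (htc : ∀ u ∈ U, u * t = t * u → u = 1) (hγt : γ t = t)
    {x : E} (hx : ∃ k : ℕ, x ^ p ^ k = 1) : γ x = x := by
  have hγs : γ • U = U := by
    refine Sylow.ext (SetLike.ext fun y => ?_)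
    show (∃ z ∈ (U : Subgroup E), γ z = y) ↔ y ∈ (U : Subgroup E)
    refine ⟨?_, fun hy => ⟨y, hy, hγU y hy⟩⟩
    rintro ⟨z, hz, rfl⟩
    show γ z ∈ U
    rw [hγU z hz]
    exact hz
  have hsU : ∀ (e : E) (V : Sylow p E), (e • V : Sylow p E) = MulAut.conj e • V := fun _ _ => rfl
  have hcomm : ∀ (e : E) (V : Sylow p E), γ • (e • V) = γ e • (γ • V) := by
    intro e V
    rw [hsU, hsU, smul_smul, smul_smul]
    congr 1
    ext y; simp [map_mul, map_inv]
  have hne_smul : ∀ u ∈ U, ∀ V : Sylow p E, V ≠ U → u • V ≠ U := fun u hu V hV e => hV (by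
    have h1 : u⁻¹ • U = U := mem_normalizer_sylow.1 (le_normalizer (inv_mem hu))
    rw [← inv_smul_smul u V, e, h1])
  have hreg : ∀ u ∈ U, ∀ V : Sylow p E, V ≠ U → u • V = V → u = 1 := by
    intro u hu V hV he
    have h2 : u ∈ (U : Subgroup E) ⊓ normalizer ((V : Subgroup E) : Set E) := ⟨hu, mem_normalizer_sylow.2 he⟩
    have h3 := U.isPGroup'.inf_normalizer_sylow V
    rw [show normalizer ((V : Subgroup E) : Set E) = normalizer (V : Set E) from rfl, h3,
      hU.ti U V (Ne.symm hV), mem_bot] at h2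
    exact h2
  obtain ⟨V₀, hV₀⟩ := hU.exists_ne
  have hsurj : ∀ V : Sylow p E, V ≠ U → ∀ W : Sylow p E, W ≠ U → ∃ u ∈ U, u • V = W := by
    intro V hV W hW
    have hcard : Nat.card U = Nat.card {W : Sylow p E // W ≠ U} := by
      classical
      have := Fintype.ofFinite (Sylow p E)
      have hc := hU.card
      rw [Nat.card_eq_fintype_card (α := Sylow p E)] at hc
      rw [Nat.card_eq_fintype_card (α := {W : Sylow p E // W ≠ U}), Fintype.card_subtype_compl,
        Fintype.card_subtype_eq, hc]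
      rfl
    have hb := (Nat.bijective_iff_injective_and_card
      (fun u : U => (⟨(u : E) • V, hne_smul _ u.2 V hV⟩ : {W : Sylow p E // W ≠ U}))).2 ⟨fun a b hab => ?_, hcard⟩
    · obtain ⟨u, hu⟩ := hb.2 ⟨W, hW⟩
      exact ⟨u, u.2, congrArg Subtype.val hu⟩
    · refine Subtype.ext (inv_mul_eq_one.1 (hreg ((a : E)⁻¹ * b) (mul_mem (inv_mem a.2) b.2) V hV ?_))
      have hab' : (a : E) • V = (b : E) • V := congrArg Subtype.val hab
      rw [mul_smul, ← hab', inv_smul_smul]
  -- the other point fixed by `t`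
  have htU : t • U = U := mem_normalizer_sylow.1 ht
  have htne : t • V₀ ≠ U := fun e => hV₀ (smul_left_cancel t (e.trans htU.symm))
  obtain ⟨u, hu, hut⟩ := hsurj V₀ hV₀ _ htne
  have hconj : ∀ v ∈ U, t * v * t⁻¹ ∈ U := fun v hv => (mem_normalizer_iff.1 ht v).1 hv
  have hb2 : Function.Surjective (fun v : U =>
      (⟨(v : E)⁻¹ * (t * v * t⁻¹), mul_mem (inv_mem v.2) (hconj _ v.2)⟩ : ↥(U : Subgroup E))) := by
    refine (Finite.injective_iff_surjective).1 fun a b hab => ?_
    have h : (a : E)⁻¹ * (t * a * t⁻¹) = (b : E)⁻¹ * (t * b * t⁻¹) := congrArg Subtype.val hab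
    have h2 := htc ((b : E) * (a : E)⁻¹) (mul_mem b.2 (inv_mem a.2)) (by
      calc (b : E) * (a : E)⁻¹ * t = b * ((a : E)⁻¹ * (t * a * t⁻¹)) * (t * (a : E)⁻¹) := by group
        _ = b * ((b : E)⁻¹ * (t * b * t⁻¹)) * (t * (a : E)⁻¹) := by rw [h]
        _ = t * (b * (a : E)⁻¹) := by group)
    exact Subtype.ext (mul_inv_eq_one.1 h2).symm
  obtain ⟨v, hv⟩ := hb2 ⟨u⁻¹, inv_mem hu⟩
  have hv' : (v : E)⁻¹ * (t * v * t⁻¹) = u⁻¹ := congrArg Subtype.val hv
  set V := (v : E) • V₀ with hV
  have hVU : V ≠ U := hne_smul _ v.2 V₀ hV₀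
  have htV : t • V = V := by
    rw [hV, smul_smul, show t * (v : E) = t * v * t⁻¹ * t from by group, ← smul_smul, ← hut, smul_smul]
    congr 1
    calc t * (v : E) * t⁻¹ * u = v * ((v : E)⁻¹ * (t * v * t⁻¹)) * u := by group
      _ = v := by rw [hv']; group
  -- all Sylow subgroups are fixed
  have huniq : ∀ W : Sylow p E, W ≠ U → t • W = W → W = V := by
    intro W hW htW
    obtain ⟨w, hw, rfl⟩ := hsurj V hVU W hW
    have h1 : (w⁻¹ * (t * w * t⁻¹)) • V = V := by
      calc (w⁻¹ * (t * w * t⁻¹)) • V = (w⁻¹ * (t * w * t⁻¹)) • t • V := by rw [htV]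
        _ = w⁻¹ • t • w • V := by simp only [smul_smul]; congr 1; group
        _ = V := by rw [htW, inv_smul_smul]
    have h2 := hreg _ (mul_mem (inv_mem hw) (hconj w hw)) V hVU h1
    rw [inv_mul_eq_one] at h2
    rw [htc w hw (by
      calc w * t = t * w * t⁻¹ * t := by rw [← h2]
        _ = t * w := by group)]
    exact one_smul E V
  have hγV : γ • V = V := huniq _ (fun e => hVU (smul_left_cancel γ (e.trans hγs.symm)))
    (by rw [← hγt, ← hcomm, htV])
  have hall : ∀ W : Sylow p E, γ • W = W := by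
    intro W
    by_cases hW : W = U
    · rw [hW]; exact hγs
    obtain ⟨w, hw, rfl⟩ := hsurj V hVU W hW
    rw [hcomm, hγU w hw, hγV]
  obtain ⟨W, hxW⟩ := exists_sylow_mem hx
  by_cases hW : W = U
  · exact hγU x (hW ▸ hxW)
  have hγx : γ x ∈ (W : Subgroup E) := by
    rw [← hall W]; exact ⟨x, hxW, rfl⟩
  have hxU : (x⁻¹ * γ x) • U = U := by
    have h1 : γ • (x • U) = x • U := hall _
    rw [hcomm, hγs] at h1
    rw [mul_smul, h1, inv_smul_smul]
  have hmem : x⁻¹ * γ x ∈ (W : Subgroup E) ⊓ normalizer ((U : Subgroup E) : Set E) :=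
    ⟨(W : Subgroup E).mul_mem ((W : Subgroup E).inv_mem hxW) hγx, mem_normalizer_sylow.2 hxU⟩
  rw [show normalizer ((U : Subgroup E) : Set E) = normalizer (U : Set E) from rfl,
    W.isPGroup'.inf_normalizer_sylow U, hU.ti W U hW, mem_bot, inv_mul_eq_one] at hmem
  exact hmem.symm

/-- The reduction. -/
theorem eq_one_of_commute {X : Type*} [Group X] [Finite X] (hcore : Cfsg.pCore p X = ⊥)
    (hE : HasRankOneSylow p ↥(Cfsg.pResidual p X)) (S : Sylow p X)
    (hmax : ∀ H K : Subgroup X, (S : Subgroup X) ≤ H → (S : Subgroup X) ≤ K → H ≠ ⊤ → K ≠ ⊤ → H ⊔ K ≠ ⊤)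
    {z : X} (hzS : z ∈ S) (hz : ∀ g ∈ normalizer ((S : Subgroup X) : Set X), g * z = z * g) : z = 1 := by
  set R := Cfsg.pResidual p X with hR
  have hRn : R.Normal := Cfsg.Lib.Fusion.pResidual_normal p X
  have hUi : ¬ p ∣ ((S : Subgroup X).subgroupOf R).index :=
    Cfsg.Lib.Solv.not_dvd_relIndex_of_isSubnormal S (Subgroup.Normal.isSubnormal hRn)
  let U : Sylow p R := (S.isPGroup'.comap_subtype (K := R)).toSylow hUi
  have hUmem : ∀ e : R, e ∈ U ↔ (e : X) ∈ S := fun e => Iff.rfl
  obtain ⟨U₁, hU₁⟩ := hE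
  have hU := hU₁.forall_sylow U
  obtain ⟨t, ht, hto, htc⟩ := hU.torus
  have hpow : ∀ (x : X) (k : ℕ), x ^ p ^ k = 1 → (MulAut.conjNormal x : MulAut R) ^ p ^ k = 1 := fun x k h => by
    rw [← map_pow, h, map_one]
  -- `t` normalizes `S`
  have hts : (t : X) ∈ normalizer ((S : Subgroup X) : Set X) := by
    have hmap : (S : Subgroup X).map (MulAut.conj (t : X)).toMonoidHom ≤ S := by
      rintro _ ⟨s, hs, rfl⟩
      obtain ⟨k, hk⟩ := S.isPGroup' ⟨s, hs⟩
      have hsU : (MulAut.conjNormal s : MulAut R) • U = U := by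
        refine Sylow.ext (SetLike.ext fun e => ⟨?_, fun he => ?_⟩)
        · rintro ⟨f, hf, rfl⟩
          rw [SetLike.mem_coe] at hf
          show ((MulAut.conjNormal s f : R) : X) ∈ (S : Subgroup X)
          rw [MulAut.conjNormal_apply]
          exact mul_mem (mul_mem hs hf) (inv_mem hs)
        · refine ⟨MulAut.conjNormal s⁻¹ e, ?_, ?_⟩
          · show ((MulAut.conjNormal s⁻¹ e : R) : X) ∈ (S : Subgroup X)
            rw [MulAut.conjNormal_apply, inv_inv]
            exact mul_mem (mul_mem (inv_mem hs) he) hs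
          · show MulAut.conjNormal s (MulAut.conjNormal s⁻¹ e) = e
            rw [← MulAut.mul_apply, ← map_mul, mul_inv_cancel, map_one]; rfl
      have h1 := auto_torus hU _ (hpow s k (congrArg Subtype.val hk)) hsU ht hto
      rw [hUmem, Subgroup.coe_mul, MulAut.conjNormal_apply, Subgroup.coe_inv] at h1
      show (t : X) * s * (t : X)⁻¹ ∈ (S : Subgroup X)
      have e : (t : X) * s * (t : X)⁻¹ = (s * (t : X) * s⁻¹ * (t : X)⁻¹)⁻¹ * s := by group
      rw [e]
      exact mul_mem (inv_mem h1) hs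
    have heq := Subgroup.eq_of_le_of_card_ge hmap
      (le_of_eq (Nat.card_congr ((S : Subgroup X).equivMapOfInjective _ (MulEquiv.injective _)).toEquiv))
    exact Cfsg.Lib.Core.mem_normalizer_iff_map_conj.2 heq
  -- `z` centralizes every `p`-element of `R`
  have hzp : ∀ e : R, (∃ k : ℕ, e ^ p ^ k = 1) → z * e = e * z := by
    intro e he
    have hγ := auto_fix hU (MulAut.conjNormal z) (fun u hu => Subtype.ext (by
      rw [MulAut.conjNormal_apply, ← hz _ (le_normalizer ((hUmem u).1 hu)), mul_inv_cancel_right]))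
      ht htc (Subtype.ext (by rw [MulAut.conjNormal_apply, ← hz _ hts, mul_inv_cancel_right])) he
    have h := congrArg Subtype.val hγ
    rw [MulAut.conjNormal_apply] at h
    calc z * e = z * e * z⁻¹ * z := by group
      _ = e * z := by rw [h]
  -- they generate `R`
  have hUp : ∀ u ∈ U, ∃ k : ℕ, u ^ p ^ k = 1 := fun u hu => by
    obtain ⟨k, hk⟩ := U.isPGroup' ⟨u, hu⟩
    exact ⟨k, congrArg Subtype.val hk⟩
  let T : Set X := {x : X | x ∈ R ∧ ∃ k : ℕ, x ^ p ^ k = 1}
  set K := Subgroup.normalClosure T with hK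
  have hKc : ∀ x ∈ K, z * x = x * z := by
    intro x hx
    have hle : K ≤ centralizer {z} := by
      rw [hK, Subgroup.normalClosure, Subgroup.closure_le]
      intro y hy
      obtain ⟨a, ⟨haR, k, hak⟩, hay⟩ := Group.mem_conjugatesOfSet_iff.1 hy
      obtain ⟨c, hc⟩ := isConj_iff.1 hay
      have hyR : y ∈ R := hc ▸ hRn.conj_mem a haR c
      have hyp : y ^ p ^ k = 1 := by rw [← hc, conj_pow, hak, mul_one, mul_inv_cancel]
      exact mem_centralizer_singleton_iff.2 (hzp ⟨y, hyR⟩ ⟨k, Subtype.ext hyp⟩).symm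
    exact (mem_centralizer_singleton_iff.1 (hle hx)).symm
  have hKR : K ≤ R := Subgroup.normalClosure_le_normal fun y hy => hy.1
  have hNtop : normalizer (((U : Subgroup R).map R.subtype : Subgroup X) : Set X) ⊔ K = ⊤ := by
    rw [eq_top_iff]
    intro x _
    -- Frattini argument for `U` inside `K`
    have hUK : (U : Subgroup R).map R.subtype ≤ K := by
      rintro _ ⟨u, hu, rfl⟩
      obtain ⟨k, hk⟩ := hUp u hu
      exact Subgroup.subset_normalClosure ⟨u.2, k, congrArg Subtype.val hk⟩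
    have hUK' : ((U : Subgroup R).map R.subtype).subgroupOf K = (S : Subgroup X).subgroupOf K := by
      ext e
      simp only [Subgroup.mem_subgroupOf, Subgroup.mem_map]
      exact ⟨fun ⟨u, hu, he⟩ => he ▸ hu, fun he => ⟨⟨e, hKR e.2⟩, he, rfl⟩⟩
    have hi : ¬ p ∣ ((S : Subgroup X).subgroupOf K).index :=
      Cfsg.Lib.Solv.not_dvd_relIndex_of_isSubnormal S (Subgroup.Normal.isSubnormal (Subgroup.normalClosure_normal))
    let Q : Sylow p K := (S.isPGroup'.comap_subtype (K := K)).toSylow hi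
    have hQ : ((Q : Subgroup K).map K.subtype) = (U : Subgroup R).map R.subtype := by
      show ((S : Subgroup X).subgroupOf K).map K.subtype = _
      rw [← hUK', Subgroup.map_subgroupOf_eq_of_le hUK]
    rw [← hQ, Sylow.normalizer_sup_eq_top Q]
    exact mem_top x
  have hSN : (S : Subgroup X) ≤ normalizer (((U : Subgroup R).map R.subtype : Subgroup X) : Set X) := by
    intro s hs
    rw [Cfsg.Lib.Core.mem_normalizer_iff_map_conj]
    refine Subgroup.eq_of_le_of_card_ge ?_
      (le_of_eq (Nat.card_congr (((U : Subgroup R).map R.subtype).equivMapOfInjective _ (MulEquiv.injective _)).toEquiv))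
    rintro _ ⟨_, ⟨u, hu, rfl⟩, rfl⟩
    exact ⟨MulAut.conjNormal s u, by
      show ((MulAut.conjNormal s u : R) : X) ∈ (S : Subgroup X)
      rw [MulAut.conjNormal_apply]
      exact mul_mem (mul_mem hs hu) (inv_mem hs), rfl⟩
  -- `U` is not normal in `X`
  have hUn : normalizer (((U : Subgroup R).map R.subtype : Subgroup X) : Set X) ≠ ⊤ := by
    intro h
    have hn := normalizer_eq_top_iff.1 h
    have hle : (U : Subgroup R).map R.subtype ≤ Cfsg.pCore p X :=
      Cfsg.Lib.Core.le_pCore (U.isPGroup'.map _)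
    rw [hcore, le_bot_iff, Subgroup.map_eq_bot_iff, R.ker_subtype, le_bot_iff] at hle
    obtain ⟨V, hV⟩ := hU.exists_ne
    refine hV (Sylow.ext ?_)
    have h1 : Nat.card (V : Subgroup R) = Nat.card (U : Subgroup R) :=
      Nat.card_congr (Sylow.equiv V U).toEquiv
    rw [hle, Subgroup.card_bot] at h1
    rw [hle, Subgroup.card_eq_one.1 h1]
  have hSK : (S : Subgroup X) ⊔ K = ⊤ := by
    by_contra hne
    refine hmax _ _ hSN le_sup_left hUn hne (eq_top_iff.2 ?_)
    rw [← hNtop]
    exact sup_le_sup_left le_sup_right _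
  have hRK : R ≤ K := Cfsg.Lib.Fusion.pResidual_le_of_isPGroup_quotient K
    (S.isPGroup'.of_surjective ((QuotientGroup.mk' K).comp (S : Subgroup X).subtype) (fun y => by
      obtain ⟨x, rfl⟩ := QuotientGroup.mk'_surjective K y
      obtain ⟨s, hs, n, hn, rfl⟩ := mem_sup_of_normal_right.1 (hSK ▸ mem_top x)
      exact ⟨⟨s, hs⟩, by simp [(QuotientGroup.eq_one_iff n).2 hn]⟩))
  -- the centralizer of `R`
  set C := centralizer (R : Set X) with hC
  have hzC : z ∈ C := mem_centralizer_iff.2 fun e he => (hKc e (hRK he)).symm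
  have : C.Normal := by rw [hC]; infer_instance
  have hi : ¬ p ∣ ((S : Subgroup X).subgroupOf C).index :=
    Cfsg.Lib.Solv.not_dvd_relIndex_of_isSubnormal S (Subgroup.Normal.isSubnormal inferInstance)
  set Q := (S : Subgroup X).subgroupOf C with hQ
  set Z := R.subgroupOf C with hZ
  have hZc : Z ≤ center C := fun x hx => mem_center_iff.2 fun y => Subtype.ext
    (mem_centralizer_iff.1 y.2 x.1 hx).symm
  have htop : Q ⊔ Z = ⊤ := by
    refine index_eq_one.1 (Nat.eq_one_of_dvd_coprimes ?_ (index_dvd_of_le (le_sup_left : Q ≤ Q ⊔ Z))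
      (index_dvd_of_le (le_sup_right : Z ≤ Q ⊔ Z)))
    have hdvd : Z.index ∣ R.index := by
      rw [hZ]
      exact Subgroup.relIndex_dvd_index_of_normal R C
    obtain ⟨k, hk⟩ := Cfsg.Lib.Fusion.index_pResidual_eq_pow (G := X) (p := p)
    exact Nat.Coprime.coprime_dvd_right (hdvd.trans (dvd_of_eq hk))
      (((Nat.Prime.coprime_iff_not_dvd Fact.out).2 hi).symm.pow_right k)
  have hQn : Q.Normal := normalizer_eq_top_iff.1 (eq_top_iff.2 (htop ▸ sup_le le_normalizer
    (fun x hx => by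
      rw [mem_normalizer_iff]
      intro y
      rw [show x * y * x⁻¹ = y by rw [← mem_center_iff.1 (hZc hx) y, mul_inv_cancel_right]])))
  have hQle : Q.map C.subtype ≤ Cfsg.pCore p X := by
    refine (Subgroup.map_mono (Cfsg.Lib.Core.le_pCore' hQn (S.isPGroup'.comap_subtype (K := C)))).trans ?_
    exact Cfsg.Lib.Core.pCore_map_le_of_isSubnormal (Subgroup.Normal.isSubnormal inferInstance)
  rw [hcore] at hQle
  exact mem_bot.1 (hQle ⟨⟨z, hzC⟩, hzS, rfl⟩)

end Cfsg.Lib.RankOneRed
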