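import Cfsg.Agent.Lib.Local.RankOneRed.Data
import Cfsg.Agent.Lib.Linear.GLTwo

/-!
# The rank-one Sylow data of `SL₂(q)`
-/

set_option autoImplicit false
set_option linter.unusedSectionVars false

namespace Cfsg.Lib.RankOneRed

open Subgroup Cfsg.Lib.Linear.Two
open scoped MatrixGroups Pointwise

/-- A homomorphism of `N(U)` to the units of a finite field with kernel `U` gives the cyclic quotient. -/
theorem cyclic_of_hom {E F : Type*} [Group E] [Field F] [Finite F] {p : ℕ} (U : Sylow p E)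
    (φ : ↥(normalizer ((U : Subgroup E) : Set E)) →* Fˣ) (hker : ∀ x, φ x = 1 → (x : E) ∈ U) :
    ∃ g ∈ normalizer ((U : Subgroup E) : Set E), ∀ x ∈ normalizer ((U : Subgroup E) : Set E),
      ∃ k : ℤ, x * g ^ k ∈ U := by
  obtain ⟨⟨_, g, rfl⟩, hg⟩ := IsCyclic.exists_generator (α := φ.range)
  refine ⟨g.1, g.2, fun x hx => ?_⟩
  obtain ⟨k, hk⟩ := Subgroup.mem_zpowers_iff.1 (hg ⟨φ ⟨x, hx⟩, ⟨x, hx⟩, rfl⟩)
  have hk' : φ g ^ k = φ ⟨x, hx⟩ := congrArg Subtype.val hk
  refine ⟨-k, hker (⟨x, hx⟩ * g ^ (-k)) ?_⟩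
  rw [map_mul, map_zpow, ← hk', zpow_neg, mul_inv_cancel]

/-- A unit of order `p - 1`. -/
theorem exists_unit_order {F : Type*} [Field F] [Fintype F] {p a : ℕ} [Fact p.Prime] (hF : Fintype.card F = p ^ a) :
    ∃ c : Fˣ, orderOf c = p - 1 := by
  classical
  obtain ⟨g, hg⟩ := IsCyclic.exists_generator (α := Fˣ)
  have h1 : orderOf g = p ^ a - 1 := by
    rw [orderOf_eq_card_of_forall_mem_zpowers hg, Nat.card_eq_fintype_card, Fintype.card_units, hF]
  have hdvd : p - 1 ∣ p ^ a - 1 := by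
    simpa using Nat.sub_dvd_pow_sub_pow p 1 a
  exact ⟨g ^ (orderOf g / (p - 1)), orderOf_pow_orderOf_div (orderOf_pos g).ne' (h1 ▸ hdvd)⟩

theorem charP_of_card {F : Type*} [Field F] [Fintype F] {p a : ℕ} [hp : Fact p.Prime]
    (hF : Fintype.card F = p ^ a) : CharP F p := by
  obtain ⟨r, hr⟩ := CharP.exists F
  obtain ⟨m, hrp, hm⟩ := FiniteField.card F r
  have h1 : r ∣ p ^ a := by rw [← hF, hm]; exact dvd_pow_self r m.ne_zero
  rwa [← (Nat.prime_dvd_prime_iff_eq hrp hp.out).1 (hrp.dvd_of_dvd_pow h1)]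

variable {F : Type*} [Field F] [Fintype F] {p a : ℕ} [Fact p.Prime]

theorem hasRankOneSylow_SL2 (hp : 5 ≤ p) (hF : Fintype.card F = p ^ a) :
    HasRankOneSylow p SL(2, F) := by
  have := charP_of_card hF
  set U : Sylow p SL(2, F) := (isPGroup_UT p).toSylow (not_dvd_index_UT p)
  have hmem : ∀ g : SL(2, F), g ∈ U ↔ g 0 0 = 1 ∧ g 1 1 = 1 ∧ g 1 0 = 0 := fun g => mem_UT
  have hdet : ∀ g : SL(2, F), g 0 0 * g 1 1 - g 0 1 * g 1 0 = 1 := fun g =>
    (Matrix.det_fin_two g.1).symm.trans g.2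
  have hlow : ∀ g u : SL(2, F), u ∈ U → u ≠ 1 → g * u * g⁻¹ ∈ U → g 1 0 = 0 := by
    intro g u hu hu1 hk
    rw [hmem] at hu hk
    have he : g * u * g⁻¹ * g = g * u := by group
    set k := g * u * g⁻¹ with hkdef
    have e := congrArg (fun x : SL(2, F) => x 0 0) he
    simp [Matrix.mul_apply, Fin.sum_univ_two, hu.1, hu.2.2, hk.1] at e
    refine e.resolve_left fun e0 => hu1 ?_
    have hk1 : k = 1 := by
      ext i j; fin_cases i <;> fin_cases j <;> simp [hk.1, hk.2.1, hk.2.2, e0]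
    simpa [hkdef, conj_eq_one_iff] using hk1
  have hN : ∀ g : SL(2, F), g ∈ normalizer ((U : Subgroup SL(2, F)) : Set SL(2, F)) ↔ g 1 0 = 0 := by
    intro g
    constructor
    · intro hg
      obtain ⟨u, hu, hu1⟩ : ∃ u : SL(2, F), u ∈ U ∧ u ≠ 1 :=
        ⟨ut (Multiplicative.ofAdd 1), ⟨_, rfl⟩, fun h => by
          have := congrArg (fun x : SL(2, F) => x 0 1) h
          simp [ut_coe] at this⟩
      exact hlow g u hu hu1 ((mem_normalizer_iff.1 hg u).1 hu)
    · intro hg
      rw [mem_normalizer_iff]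
      have key : ∀ g u : SL(2, F), g 1 0 = 0 → u ∈ U → g * u * g⁻¹ ∈ U := by
        intro g u hg hu
        rw [hmem] at hu ⊢
        have hd := hdet g
        rw [hg, mul_zero, sub_zero] at hd
        simp [Matrix.SpecialLinearGroup.coe_inv, Matrix.adjugate_fin_two, Matrix.mul_apply, Fin.sum_univ_two,
          hu.1, hu.2.1, hu.2.2, hg]
        refine ⟨?_, ?_⟩ <;> linear_combination hd
      have hgi : (g⁻¹ : SL(2, F)) 1 0 = 0 := by
        simp [Matrix.SpecialLinearGroup.coe_inv, Matrix.adjugate_fin_two, hg]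
      exact fun u => ⟨key g u hg, fun h => by
        have := key g⁻¹ _ hgi h
        show u ∈ U
        simpa [mul_assoc] using this⟩
  set N := normalizer ((U : Subgroup SL(2, F)) : Set SL(2, F))
  let φ : N →* Fˣ := MonoidHom.toHomUnits
    { toFun := fun g => (g : SL(2, F)) 0 0
      map_one' := by simp
      map_mul' := fun g h => by
        simp [Matrix.mul_apply, Fin.sum_univ_two, (hN h).1 h.2] }
  have hφ : ∀ g : N, ((φ g : Fˣ) : F) = (g : SL(2, F)) 0 0 := fun _ => rfl
  have hker : ∀ x, φ x = 1 → (x : SL(2, F)) ∈ U := by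
    intro x hx
    have h0 : (x : SL(2, F)) 0 0 = 1 := by rw [← hφ, hx, Units.val_one]
    have hd := hdet x
    rw [(hN x).1 x.2, h0, mul_zero, sub_zero, one_mul] at hd
    exact (hmem _).2 ⟨h0, hd, (hN x).1 x.2⟩
  let diag : Fˣ → SL(2, F) := fun c => ⟨!![(c : F), 0; 0, ((c⁻¹ : Fˣ) : F)], by simp [Matrix.det_fin_two]⟩
  have hdiag : ∀ c, diag c ∈ N := fun c => (hN _).2 (by simp [diag])
  have hsurj : Function.Surjective φ := fun c => ⟨⟨diag c, hdiag c⟩, Units.ext (by rw [hφ]; simp [diag])⟩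
  have hcardN : Nat.card N = Fintype.card F * (Fintype.card F - 1) := by
    rw [Subgroup.card_eq_card_quotient_mul_card_subgroup φ.ker,
      Nat.card_congr (QuotientGroup.quotientKerEquivOfSurjective φ hsurj).toEquiv,
      show φ.ker = (U : Subgroup SL(2, F)).subgroupOf N from ?_,
      Nat.card_congr (Subgroup.subgroupOfEquivOfLe le_normalizer).toEquiv,
      show (U : Subgroup SL(2, F)) = UT F from rfl, card_UT, Cfsg.Lib.Linear.card_units_eq, mul_comm]
    ext x
    rw [MonoidHom.mem_ker, Subgroup.mem_subgroupOf]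
    exact ⟨hker x, fun h => Units.ext (by rw [hφ, ((hmem _).1 h).1, Units.val_one])⟩
  refine ⟨U, ti_of_conj U (fun g u hu hu1 hk => (hN g).2 (hlow g u hu hu1 hk)), ?_, cyclic_of_hom U φ hker, ?_⟩
  · show _ = Nat.card ↥(UT F) + 1
    rw [card_UT]
    have h1 := Subgroup.card_mul_index N
    rw [hcardN, card_SL_two, show N.index = Nat.card (Sylow p SL(2, F)) from U.card_eq_index_normalizer.symm] at h1
    have hq : 2 ≤ Fintype.card F := Fintype.one_lt_card
    refine Nat.eq_of_mul_eq_mul_left (show 0 < Fintype.card F * (Fintype.card F - 1) from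
      Nat.mul_pos (by omega) (by omega)) (h1.trans ?_)
    rw [mul_assoc, show Fintype.card F ^ 2 - 1 = (Fintype.card F - 1) * (Fintype.card F + 1) from ?_]
    rw [mul_comm (Fintype.card F - 1) (Fintype.card F + 1), ← Nat.sq_sub_sq, one_pow]
  · obtain ⟨c, hc⟩ := exists_unit_order hF
    refine ⟨diag c, hdiag c, ?_, fun u hu he => ?_⟩
    · refine orderOf_dvd_of_pow_eq_one ?_
      let δ : Fˣ →* SL(2, F) :=
        { toFun := diag
          map_one' := by ext i j; fin_cases i <;> fin_cases j <;> simp [diag]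
          map_mul' := fun x y => by
            refine Subtype.ext ?_
            rw [Matrix.SpecialLinearGroup.coe_mul]
            show !![((x * y : Fˣ) : F), 0; 0, (((x * y)⁻¹ : Fˣ) : F)] =
              !![(x : F), 0; 0, ((x⁻¹ : Fˣ) : F)] * !![(y : F), 0; 0, ((y⁻¹ : Fˣ) : F)]
            simp [Matrix.mul_fin_two, mul_comm] }
      show (δ c) ^ (p - 1) = 1
      rw [← map_pow, ← hc, pow_orderOf_eq_one, map_one]
    · rw [hmem] at hu
      have e := congrArg (fun x : SL(2, F) => x 0 1) he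
      simp only [Matrix.SpecialLinearGroup.coe_mul, Matrix.mul_apply, Fin.sum_univ_two] at e
      simp [diag, hu.1, hu.2.1] at e
      have hne : ((c⁻¹ : Fˣ) : F) - (c : F) ≠ 0 := by
        intro h0
        rw [sub_eq_zero] at h0
        have h2 : c ^ 2 = 1 := by
          rw [pow_two]
          nth_rw 1 [← Units.ext h0]
          exact inv_mul_cancel c
        have := Nat.le_of_dvd two_pos (orderOf_dvd_of_pow_eq_one h2)
        omega
      have h01 : u 0 1 = 0 := by
        have h3 : u 0 1 * (((c⁻¹ : Fˣ) : F) - (c : F)) = 0 := by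
          rw [Units.val_inv_eq_inv_val]; linear_combination e
        exact (mul_eq_zero.1 h3).resolve_right hne
      ext i j; fin_cases i <;> fin_cases j <;> simp [hu.1, hu.2.1, hu.2.2, h01]

end Cfsg.Lib.RankOneRed
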