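import Cfsg.Agent.Lib.Local.RankOneRed.SL2
import Cfsg.Agent.Lib.Linear.MinIndexU3.Main

/-!
# The rank-one Sylow data of `SU₃(q)`
-/

set_option autoImplicit false
set_option linter.unusedSectionVars false

namespace Cfsg.Lib.RankOneRed

open Subgroup Module
open Cfsg.Lib.Linear Cfsg.Lib.Linear.Herm Cfsg.Lib.Linear.MinIndexU Cfsg.Lib.Linear.MinIndexU3
open scoped Pointwise

variable {F : Type*} [Field F] [Fintype F] {p a q : ℕ} [Fact p.Prime]

theorem hasRankOneSylow_SUg (hp : 5 ≤ p) (ha : 1 ≤ a) (hqp : q = p ^ a) (hF : Fintype.card F = q ^ 2) :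
    HasRankOneSylow p (SUg hF 3) := by
  have hqeq : Fintype.card F = p ^ (2 * a) := by rw [hF, hqp, ← pow_mul, mul_comm]
  have := charP_of_card hqeq
  have := finite_sg hF (n := 3)
  have hq : 3 ≤ q := by
    rw [hqp]; calc 3 ≤ p ^ 1 := by rw [pow_one]; omega
      _ ≤ p ^ a := Nat.pow_le_pow_right (by omega) ha
  have C := space3 hF hq
  obtain ⟨v, -, hv0, hv⟩ := exists_iso_ne_zero (frob_ne_id hF) (frob_frob hF) (hB_isSymm hF 3)
    (⊤ : Submodule F (Fin 3 → F)) (by rw [finrank_top, finrank_fin_fun]; omega)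
  obtain ⟨e, v', D⟩ := exists_frame3 C hv hv0
  -- the orders of `B` and `U`
  have hB : (Bv hF v).index = q ^ 3 + 1 := by
    have hst : Bv hF v = MulAction.stabilizer (SUg hF 3) (pt hv0 hv) := by
      ext g; rw [MulAction.mem_stabilizer_iff, mem_stab_pt hv0 hv]
    rw [hst, MulAction.index_stabilizer, show MulAction.orbit (SUg hF 3) (pt hv0 hv) = Set.univ from
      Set.eq_univ_of_forall fun Q => exists_smul C _ Q, Set.ncard_univ, card_Pt]
  have hq2 : 1 < q ^ 2 := Nat.one_lt_pow two_ne_zero (by omega)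
  have hcB : Nat.card (Bv hF v) = q ^ 3 * (q ^ 2 - 1) := by
    have h := Subgroup.card_mul_index (Bv hF v)
    rw [hB, card_SUg hF hq] at h
    exact Nat.eq_of_mul_eq_mul_right (show 0 < q ^ 3 + 1 by omega) (h.trans (by ring))
  let ψ : Bv hF v →* Fˣ := MonoidHom.toHomUnits
    { toFun := fun g => D.nu g.1
      map_one' := D.nu_one
      map_mul' := fun g h => D.nu_mul g.2 h.2 }
  have hψ : ∀ g, ((ψ g : Fˣ) : F) = D.nu g.1 := fun _ => rfl
  have hker : ψ.ker = (Uv hF v).subgroupOf (Bv hF v) := by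
    ext g
    rw [MonoidHom.mem_ker, Subgroup.mem_subgroupOf, ← D.nu_one_iff g.2, ← hψ, Units.val_eq_one]
  have hsemi : ∀ u ∈ Uv hF v, ∀ g : SUg hF 3, g ∉ Bv hF v → (u * g).1 v ∈ Submodule.span F {g.1 v} → u = 1 := by
    intro u hu g hg hm
    obtain ⟨k, hk⟩ := Submodule.mem_span_singleton.1 hm
    refine D.semiregular hu (w := g.1 v) (fun h => hv0 (g.1.injective (h.trans (map_zero _).symm)))
      ((sg_form3 C g v v).trans hv) (fun h => hg ?_) (k := k) (by rw [hk, sg_mul_apply])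
    obtain ⟨c, hc⟩ := Submodule.mem_span_singleton.1 h
    exact ⟨c, hc.symm⟩
  have hle : Nat.card (Uv hF v) ≤ q ^ 3 := by
    obtain ⟨g, hg⟩ : ∃ g : SUg hF 3, g ∉ Bv hF v := by
      by_contra h
      push Not at h
      rw [Subgroup.eq_top_iff' (Bv hF v) |>.2 h, Subgroup.index_top] at hB
      have : 0 < q ^ 3 := pow_pos (by omega) 3
      omega
    classical
    have : Finite (Pt hF) := inferInstance
    have := Fintype.ofFinite (Pt hF)
    have h1 : Nat.card {Q : Pt hF // Q ≠ pt hv0 hv} = q ^ 3 := by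
      rw [Nat.card_eq_fintype_card, Fintype.card_subtype_compl, Fintype.card_subtype_eq,
        ← Nat.card_eq_fintype_card, card_Pt, Nat.add_sub_cancel]
    rw [← h1]
    refine Nat.card_le_card_of_injective
      (fun u : Uv hF v => (⟨((u : SUg hF 3) * g) • pt hv0 hv, fun h => hg ?_⟩ : {Q : Pt hF // Q ≠ pt hv0 hv}))
      fun x y hxy => ?_
    · have h' := (mem_stab_pt hv0 hv).1 h
      have := mul_mem (inv_mem (Uv_le u.2)) h'
      rwa [inv_mul_cancel_left] at this
    · have h : ((x : SUg hF 3) * g) • pt hv0 hv = ((y : SUg hF 3) * g) • pt hv0 hv := congrArg Subtype.val hxy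
      have h2 : ((y : SUg hF 3)⁻¹ * x) = 1 := by
        refine hsemi _ (mul_mem (inv_mem y.2) x.2) g hg ?_
        rw [mul_smul, mul_smul, ← inv_smul_eq_iff, smul_smul, smul_smul, smul_pt, smul_pt, pt_eq_iff] at h
        obtain ⟨c, hc⟩ := h
        rw [hc]
        by_cases hc0 : c = 0
        · rw [hc0, zero_smul] at hc
          exact absurd (g.1.injective (hc.trans (map_zero _).symm)) hv0
        exact Submodule.mem_span_singleton.2 ⟨c⁻¹, inv_smul_smul₀ hc0 _⟩
      exact Subtype.ext (inv_mul_eq_one.1 h2).symm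
  have hsplit : Nat.card (Bv hF v) = Nat.card (Uv hF v) * Nat.card ψ.range := by
    rw [Subgroup.card_eq_card_quotient_mul_card_subgroup ψ.ker,
      Nat.card_congr (QuotientGroup.quotientKerEquivRange ψ).toEquiv, hker,
      Nat.card_congr (Subgroup.subgroupOfEquivOfLe Uv_le).toEquiv, mul_comm]
  have hr : Nat.card ψ.range ≤ q ^ 2 - 1 := by
    rw [← hF, ← Cfsg.Lib.Linear.card_units_eq]
    exact Subgroup.card_le_card_group _
  have hcU : Nat.card (Uv hF v) = q ^ 3 := by
    refine le_antisymm hle (Nat.le_of_mul_le_mul_right ?_ (show 0 < q ^ 2 - 1 by omega))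
    rw [← hcB, hsplit]
    exact Nat.mul_le_mul_left _ hr
  have hsurj : Function.Surjective ψ := by
    rw [← MonoidHom.range_eq_top]
    refine Subgroup.eq_top_of_card_eq _ ?_
    rw [hcB, hcU] at hsplit
    rw [Cfsg.Lib.Linear.card_units_eq, hF]
    exact (Nat.eq_of_mul_eq_mul_left (pow_pos (by omega) 3) hsplit).symm
  -- the Sylow subgroup
  have hUp : IsPGroup p (Uv hF v) := IsPGroup.of_card (n := a * 3) (by rw [hcU, hqp, pow_mul])
  have hUi : ¬ p ∣ (Uv hF v).index := by
    have h := Subgroup.card_mul_index (Uv hF v)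
    rw [hcU, card_SUg hF hq, mul_assoc] at h
    rw [Nat.eq_of_mul_eq_mul_left (pow_pos (by omega) 3) h]
    have hpq : p ∣ q := hqp ▸ dvd_pow_self p (by omega)
    have hp' : p.Prime := Fact.out
    intro hd
    rcases hp'.dvd_mul.1 hd with hd | hd
    · exact hp'.not_dvd_one ((Nat.dvd_add_right (hpq.trans (dvd_pow_self q three_ne_zero))).1 hd)
    · have := Nat.dvd_sub (hpq.trans (dvd_pow_self q two_ne_zero)) hd
      rw [Nat.sub_sub_self (by omega)] at this
      exact hp'.not_dvd_one this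
  set U : Sylow p (SUg hF 3) := hUp.toSylow hUi
  have hconjU : ∀ g ∈ Bv hF v, ∀ u ∈ Uv hF v, g * u * g⁻¹ ∈ Uv hF v := by
    intro g hg u hu
    obtain ⟨c, hc⟩ := inv_mem hg
    rw [mem_Uv, sg_mul_apply, sg_mul_apply, hc, map_smul, mem_Uv.1 hu, ← hc, ← sg_mul_apply, mul_inv_cancel]
    rfl
  have hlow : ∀ g u : SUg hF 3, u ∈ Uv hF v → u ≠ 1 → g * u * g⁻¹ ∈ Uv hF v → g ∈ Bv hF v := by
    intro g u hu hu1 hk
    by_contra hg
    refine hu1 ?_
    have h1 : g * u * g⁻¹ = 1 := hsemi _ hk g hg (by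
      rw [inv_mul_cancel_right, sg_mul_apply, mem_Uv.1 hu]
      exact Submodule.mem_span_singleton_self _)
    simpa [conj_eq_one_iff] using h1
  have hN : ∀ g : SUg hF 3, g ∈ normalizer ((U : Subgroup (SUg hF 3)) : Set (SUg hF 3)) ↔ g ∈ Bv hF v := by
    intro g
    constructor
    · intro hg
      obtain ⟨⟨u, hu⟩, hu1⟩ : ∃ u : Uv hF v, u ≠ 1 := by
        have : Nontrivial (Uv hF v) := Finite.one_lt_card_iff_nontrivial.1 (by
          rw [hcU]; exact Nat.one_lt_pow three_ne_zero (by omega))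
        exact exists_ne 1
      exact hlow g u hu (fun h => hu1 (Subtype.ext h)) ((mem_normalizer_iff.1 hg u).1 hu)
    · intro hg
      rw [mem_normalizer_iff]
      refine fun u => ⟨hconjU g hg u, fun h => ?_⟩
      have := hconjU g⁻¹ (inv_mem hg) _ h
      show u ∈ Uv hF v
      simpa [mul_assoc] using this
  have hNeq : normalizer ((U : Subgroup (SUg hF 3)) : Set (SUg hF 3)) = Bv hF v := SetLike.ext hN
  refine ⟨U, ti_of_conj U (fun g u hu hu1 hk => (hN g).2 (hlow g u hu hu1 hk)), ?_,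
    cyclic_of_hom U (ψ.comp (Subgroup.inclusion hNeq.le)) (fun x hx => ?_), ?_⟩
  · show _ = Nat.card ↥(Uv hF v) + 1
    rw [hcU, ← hB, ← hNeq]
    exact U.card_eq_index_normalizer
  · show (x : SUg hF 3) ∈ Uv hF v
    have h : (Subgroup.inclusion hNeq.le x) ∈ ψ.ker := hx
    rw [hker] at h
    exact h
  · obtain ⟨c, hc⟩ := exists_unit_order hqeq
    obtain ⟨⟨t₀, ht₀⟩, htc⟩ := hsurj c
    have hcp : c ^ (p - 1) = 1 := hc ▸ pow_orderOf_eq_one c
    have hcpp : ∀ j : ℕ, c ^ p ^ j = c := by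
      intro j
      induction j with
      | zero => simp
      | succ j ih =>
        rw [pow_succ, pow_mul, ih]
        calc c ^ p = c ^ (p - 1) * c := by rw [← pow_succ, Nat.sub_add_cancel (by omega)]
          _ = c := by rw [hcp, one_mul]
    set t : Bv hF v := (⟨t₀, ht₀⟩ : Bv hF v) ^ p ^ (a * 3) with ht
    have hνt : ψ t = c := by rw [ht, map_pow, htc, hcpp]
    have hord : orderOf (t : SUg hF 3) ∣ p - 1 := by
      refine orderOf_dvd_of_pow_eq_one ?_
      have h1 : t₀ ^ (p - 1) ∈ Uv hF v := by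
        have h2 : (⟨t₀, ht₀⟩ : Bv hF v) ^ (p - 1) ∈ ψ.ker := by
          rw [MonoidHom.mem_ker, map_pow, htc, hcp]
        rw [hker] at h2
        exact h2
      have h3 : (⟨t₀ ^ (p - 1), h1⟩ : Uv hF v) ^ p ^ (a * 3) = 1 := by
        rw [show p ^ (a * 3) = Nat.card (Uv hF v) by rw [hcU, hqp, pow_mul]]
        exact pow_card_eq_one'
      have h4 := congrArg Subtype.val h3
      rw [ht, SubmonoidClass.coe_pow, ← pow_mul, mul_comm, pow_mul]
      exact h4
    refine ⟨t, (hN _).2 t.2, hord, fun u hu he => ?_⟩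
    have hu' : u ∈ Uv hF v := hu
    have hνu : D.nu u = 1 := (D.nu_one_iff (Uv_le hu')).2 hu'
    have hν : D.nu (t : SUg hF 3) = (c : F) := by rw [← hψ, hνt]
    have hσ : frob hF (c : F) = (c : F) := by
      rw [frob_apply, ← Units.val_pow_eq_pow_val, hqp, hcpp]
    have hc1 : ((c⁻¹ : Fˣ) : F) - 1 ≠ 0 := by
      rw [sub_ne_zero, ne_eq, Units.val_eq_one, inv_eq_one]
      intro h
      rw [h, orderOf_one] at hc
      omega
    have hc2 : (c : F) - ((c⁻¹ : Fˣ) : F) ≠ 0 := by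
      rw [sub_ne_zero]
      intro h
      have h2 : c ^ 2 = 1 := by
        rw [pow_two]
        nth_rw 2 [Units.ext h]
        exact mul_inv_cancel c
      have := Nat.le_of_dvd two_pos (orderOf_dvd_of_pow_eq_one h2)
      omega
    have e1 := congrArg D.fy he
    rw [D.fy_mul (Uv_le hu') t.2, D.fy_mul t.2 (Uv_le hu'), hνu, hν, map_one, hσ, div_self (one_ne_zero' F),
      div_self c.ne_zero, div_one, one_mul, one_mul] at e1
    have hy : D.fy u = 0 := by
      have : D.fy u * (((c⁻¹ : Fˣ) : F) - 1) = 0 := by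
        rw [Units.val_inv_eq_inv_val]; linear_combination e1
      exact (mul_eq_zero.1 this).resolve_right hc1
    have e2 := congrArg D.fz he
    rw [D.fz_mul (Uv_le hu') t.2, D.fz_mul t.2 (Uv_le hu'), hνu, hν, map_one, hσ, hy] at e2
    simp only [map_zero, mul_zero, zero_mul, sub_zero, mul_one, div_one] at e2
    have hz : D.fz u = 0 := by
      have : D.fz u * ((c : F) - ((c⁻¹ : Fˣ) : F)) = 0 := by
        rw [Units.val_inv_eq_inv_val]; linear_combination -e2
      exact (mul_eq_zero.1 this).resolve_right hc2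
    exact D.ext_coord (Uv_le hu') (one_mem _) (by rw [hνu, D.nu_one]) (by rw [hy, D.fy_one]) (by rw [hz, D.fz_one])

theorem hasRankOneSylow_SU3 (hp : 5 ≤ p) (ha : 1 ≤ a) (hF : Fintype.card F = p ^ (2 * a)) :
    HasRankOneSylow p ↥(Cfsg.SU 3 F (p ^ a)) := by
  have hF2 : Fintype.card F = (p ^ a) ^ 2 := by rw [hF, ← pow_mul, mul_comm]
  have hq : 3 ≤ p ^ a := calc
    3 ≤ p ^ 1 := by rw [pow_one]; omega
    _ ≤ p ^ a := Nat.pow_le_pow_right (by omega) ha
  have := finite_sg hF2 (n := 3)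
  have e : Cfsg.SU 3 F (p ^ a) ≃* SUg hF2 3 :=
    (MonoidHom.ofInjective (suToLin_injective (F := F) (q := p ^ a) 3)).trans
      (MulEquiv.subgroupCongr (suToLin_range hF2 (Or.inr ⟨le_rfl, Cfsg.Agent.S0780.two_trace_zero hF2 hq⟩)))
  exact (hasRankOneSylow_SUg hp ha rfl hF2).of_equiv e.symm

end Cfsg.Lib.RankOneRed
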